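import Mathlib

/-!
Common eigenvectors of finitely many commuting endomorphisms over an algebraically closed field,
and lower bounds on the dimension from the number of distinct joint eigencharacters.
-/

namespace Cfsg.Agent.Lib.RepBounds

open Module

variable {K V : Type*} [Field K] [AddCommGroup V] [Module K V] [FiniteDimensional K V]

/-- Commuting endomorphisms stabilising a nonzero subspace have a common eigenvector in it. -/
theorem exists_common_eigenvector [IsAlgClosed K] {ι : Type*} [Finite ι] (T : ι → End K V)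
    (hc : ∀ i j, Commute (T i) (T j)) (E : Submodule K V) (hE : E ≠ ⊥)
    (hinv : ∀ i, ∀ v ∈ E, T i v ∈ E) :
    ∃ v ∈ E, v ≠ 0 ∧ ∃ χ : ι → K, ∀ i, T i v = χ i • v := by
  classical
  have := Fintype.ofFinite ι
  suffices H : ∀ s : Finset ι, ∃ E' : Submodule K V, E' ≤ E ∧ E' ≠ ⊥ ∧
      (∀ i, ∀ v ∈ E', T i v ∈ E') ∧ ∀ i ∈ s, ∃ c : K, ∀ v ∈ E', T i v = c • v by
    obtain ⟨E', hle, hne, -, hs⟩ := H Finset.univ
    choose c hc' using fun i => hs i (Finset.mem_univ i)
    obtain ⟨v, hv, hv0⟩ := Submodule.exists_mem_ne_zero_of_ne_bot hne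
    exact ⟨v, hle hv, hv0, c, fun i => hc' i v hv⟩
  intro s
  induction s using Finset.induction_on with
  | empty => exact ⟨E, le_rfl, hE, hinv, by simp⟩
  | insert a s _ ih =>
    obtain ⟨E', hle, hne, hinv', hs⟩ := ih
    have : Nontrivial E' := Submodule.nontrivial_iff_ne_bot.mpr hne
    obtain ⟨c, hcv⟩ := End.exists_eigenvalue ((T a).restrict (hinv' a))
    obtain ⟨v, hv⟩ := hcv.exists_hasEigenvector
    refine ⟨E' ⊓ End.eigenspace (T a) c, inf_le_left.trans hle, ?_, ?_, ?_⟩
    · intro h
      have hmem : (v : V) ∈ E' ⊓ End.eigenspace (T a) c := by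
        refine ⟨v.2, ?_⟩
        rw [SetLike.mem_coe, End.mem_eigenspace_iff]
        have := congrArg Subtype.val hv.apply_eq_smul
        simpa using this
      rw [h, Submodule.mem_bot] at hmem
      exact hv.2 (Subtype.ext hmem)
    · intro i w hw
      refine ⟨hinv' i w hw.1, ?_⟩
      have h2 := hw.2
      rw [SetLike.mem_coe, End.mem_eigenspace_iff] at h2 ⊢
      rw [← End.mul_apply, (hc a i).eq, End.mul_apply, h2, map_smul]
    · intro i hi
      rcases Finset.mem_insert.mp hi with rfl | hi
      · exact ⟨c, fun w hw => End.mem_eigenspace_iff.mp hw.2⟩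
      · obtain ⟨d, hd⟩ := hs i hi
        exact ⟨d, fun w hw => hd w hw.1⟩

/-- An endomorphism of finite order prime to the characteristic, a power of which is not the
identity, has an eigenvalue whose power is not one. -/
theorem exists_eigenvalue_pow_ne_one [IsAlgClosed K] (T : End K V) {N m : ℕ} (hN : (N : K) ≠ 0)
    (hT : T ^ N = 1) (hm : T ^ m ≠ 1) : ∃ c : K, End.eigenspace T c ≠ ⊥ ∧ c ^ m ≠ 1 := by
  have hss : T.IsSemisimple :=
    End.isSemisimple_of_squarefree_aeval_eq_zero
      (p := (Polynomial.X ^ N - 1 : Polynomial K))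
      (Polynomial.X_pow_sub_one_separable_iff.mpr hN).squarefree (by simp [hT])
  have htop := hss.iSup_eigenspace_eq_top
  by_contra h
  push Not at h
  apply hm
  have : LinearMap.ker (T ^ m - 1) = ⊤ := by
    rw [eq_top_iff, ← htop, iSup_le_iff]
    intro c v hv
    rw [LinearMap.mem_ker, LinearMap.sub_apply, sub_eq_zero, End.one_apply]
    by_cases hv0 : v = 0
    · simp [hv0]
    · have hne : End.eigenspace T c ≠ ⊥ := fun hb => hv0 (by simpa [hb] using hv)
      rw [End.HasEigenvector.pow_apply ⟨hv, hv0⟩ m, h c hne, one_smul]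
  exact sub_eq_zero.mp (LinearMap.ker_eq_top.mp this)

/-- Distinct joint eigencharacters are no more than the dimension. -/
theorem card_le_finrank_of_eigenchar {ι : Type*} (T : ι → End K V) (J : Finset (ι → K))
    (hJ : ∀ χ ∈ J, ∃ v : V, v ≠ 0 ∧ ∀ i, T i v = χ i • v) : J.card ≤ finrank K V := by
  classical
  choose v hv0 hv using hJ
  have hli : LinearIndependent K (fun χ : J => v χ.1 χ.2) := by
    rw [linearIndependent_iff']
    intro s g
    induction s using Finset.induction_on generalizing g with
    | empty => simp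
    | insert a s ha ih =>
      intro hsum
      have key : ∀ b ∈ s, g b = 0 := by
        intro b hb
        have hne : b.1 ≠ a.1 := fun h => ha (Subtype.ext h ▸ hb)
        obtain ⟨i, hi⟩ := Function.ne_iff.mp hne
        have h1 := congrArg (fun x => T i x - a.1 i • x) hsum
        simp only [map_sum, map_smul, hv _ (Subtype.prop _), Finset.smul_sum, map_zero, smul_zero,
          sub_zero, ← Finset.sum_sub_distrib, smul_smul, ← sub_smul] at h1
        rw [Finset.sum_insert ha, mul_comm (g a), sub_self, zero_smul, zero_add] at h1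
        have h2 := ih (fun c => g c * c.1 i - a.1 i * g c) h1 b hb
        rw [mul_comm (a.1 i), ← mul_sub] at h2
        exact (mul_eq_zero.mp h2).resolve_right (sub_ne_zero.mpr hi)
      intro b hb
      rcases Finset.mem_insert.mp hb with rfl | hb
      · rw [Finset.sum_insert ha, Finset.sum_eq_zero (fun c hc => by rw [key c hc, zero_smul]),
          add_zero] at hsum
        exact (smul_eq_zero.mp hsum).resolve_right (hv0 _ _)
      · exact key b hb
  simpa using hli.fintype_card_le_finrank

end Cfsg.Agent.Lib.RepBounds
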