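import Mathlib
import Cfsg.Agent.Lib.RepBounds.Eigen

/-!
`n` commuting copies of a group containing an element inverted by another one need dimension
at least `2 n`.
-/

namespace Cfsg.Agent.Lib.RepBounds

open Module Finset

variable {K V : Type*} [Field K] [AddCommGroup V] [Module K V] [FiniteDimensional K V]

theorem two_mul_le_two_pow (k : ℕ) : 2 * k ≤ 2 ^ k := by
  induction k with
  | zero => simp
  | succ k ih =>
    rw [pow_succ]
    rcases k with _ | k
    · simp
    · omega

theorem two_mul_le_finrank [IsAlgClosed K] {L : Type*} [Group L] {n : ℕ}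
    (R : (Fin n → L) →* End K V) (s w : L) (hw : w * s * w⁻¹ = s⁻¹) {N m : ℕ}
    (hN : (N : K) ≠ 0) (hs : s ^ N = 1) (hm : ∀ i, R (Pi.mulSingle i (s ^ m)) ≠ 1)
    (hflip : ∀ c : K, c ^ N = 1 → c ^ m ≠ 1 → c ≠ c⁻¹) : 2 * n ≤ finrank K V := by
  classical
  let T : Fin n → End K V := fun i => R (Pi.mulSingle i s)
  have hc : ∀ i j, Commute (T i) (T j) := by
    intro i j
    refine Commute.map ?_ R
    by_cases h : i = j
    · rw [h]; exact Commute.refl _
    · exact Pi.mulSingle_commute (f := fun _ : Fin n => L) h s s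
  have hTN : ∀ i, T i ^ N = 1 := by
    intro i
    rw [← map_pow, ← Pi.mulSingle_pow, hs, Pi.mulSingle_one, map_one]
  have hN0 : N ≠ 0 := by rintro rfl; exact hN Nat.cast_zero
  have hroot : ∀ i {v : V} {c : K}, v ≠ 0 → T i v = c • v → c ^ N = 1 := by
    intro i v c hv hvc
    have h1 := End.HasEigenvector.pow_apply (f := T i) (μ := c)
      ⟨End.mem_eigenspace_iff.mpr hvc, hv⟩ N
    rw [hTN, End.one_apply] at h1
    have : (c ^ N - 1) • v = 0 := by rw [sub_smul, one_smul, ← h1, sub_self]
    exact sub_eq_zero.mp ((smul_eq_zero.mp this).resolve_right hv)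
  let J : Set (Fin n → K) := {χ | ∃ v : V, v ≠ 0 ∧ ∀ i, T i v = χ i • v}
  have hJfin : J.Finite := by
    by_contra h
    obtain ⟨t, ht, hcard⟩ := Set.Infinite.exists_subset_card_eq h (finrank K V + 1)
    have := card_le_finrank_of_eigenchar T t (fun χ hχ => ht hχ)
    omega
  let Jf := hJfin.toFinset
  have hle : Jf.card ≤ finrank K V :=
    card_le_finrank_of_eigenchar T Jf (fun χ hχ => hJfin.mem_toFinset.mp hχ)
  have hupd : ∀ χ ∈ J, ∀ i, Function.update χ i (χ i)⁻¹ ∈ J := by
    rintro χ ⟨v, hv, hvχ⟩ i
    let W : End K V := R (Pi.mulSingle i w)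
    let W' : End K V := R (Pi.mulSingle i w⁻¹)
    have hWW' : W' * W = 1 := by
      rw [← map_mul, ← Pi.mulSingle_mul, inv_mul_cancel, Pi.mulSingle_one, map_one]
    refine ⟨W v, fun h => hv ?_, fun j => ?_⟩
    · have := congrArg (fun f : End K V => f v) hWW'
      simp only [End.mul_apply, h, map_zero, End.one_apply] at this
      exact this.symm
    by_cases hji : j = i
    · subst hji
      rw [Function.update_self]
      have hcomm : T j * W = W * R (Pi.mulSingle j s⁻¹) := by
        simp only [T, W, ← map_mul, ← Pi.mulSingle_mul]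
        congr 2
        rw [← hw]
        have : s⁻¹ = w * s * w⁻¹ := hw.symm
        have h' := congrArg (fun x => x⁻¹) this
        simp only [inv_inv, mul_inv_rev] at h'
        calc s * w = (w * (s⁻¹ * w⁻¹)) * w := by rw [← h']
          _ = w * s⁻¹ := by group
          _ = w * (w * s * w⁻¹) := by rw [hw]
      have hinv : R (Pi.mulSingle j s⁻¹) v = (χ j)⁻¹ • v := by
        have hχ0 : χ j ≠ 0 := by
          intro h0
          have := hroot j hv (hvχ j)
          rw [h0, zero_pow hN0] at this
          exact zero_ne_one this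
        have h1 : R (Pi.mulSingle j s⁻¹) * T j = 1 := by
          simp only [T, ← map_mul, ← Pi.mulSingle_mul, inv_mul_cancel, Pi.mulSingle_one, map_one]
        have h2 := congrArg (fun f : End K V => f v) h1
        simp only [End.mul_apply, hvχ, map_smul, End.one_apply] at h2
        rw [eq_inv_smul_iff₀ hχ0]
        exact h2
      rw [← End.mul_apply, hcomm, End.mul_apply, hinv, map_smul]
    · rw [Function.update_of_ne hji]
      have hcomm : T j * W = W * T j := ((Pi.mulSingle_commute (f := fun _ : Fin n => L) hji s w).map R).eq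
      rw [← End.mul_apply, hcomm, End.mul_apply, hvχ, map_smul]
  let flip : (Fin n → K) → Finset (Fin n) → (Fin n → K) :=
    fun χ A j => if j ∈ A then (χ j)⁻¹ else χ j
  have hflipJ : ∀ χ ∈ J, ∀ A, flip χ A ∈ J := by
    intro χ hχ A
    induction A using Finset.induction_on with
    | empty => simpa [flip] using hχ
    | insert a A ha ih =>
      convert hupd _ ih a using 1
      funext j
      by_cases hj : j = a
      · subst hj; simp [flip, ha]
      · simp [flip, hj]
  let supp : (Fin n → K) → Finset (Fin n) := fun χ => univ.filter fun j => χ j ^ m ≠ 1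
  have hcover : ∀ i, ∃ χ ∈ Jf, i ∈ supp χ := by
    intro i
    obtain ⟨c, hne, hcm⟩ := exists_eigenvalue_pow_ne_one (T i) hN (hTN i) (m := m) (by
      rw [← map_pow, ← Pi.mulSingle_pow]; exact hm i)
    obtain ⟨v, hv, hv0, χ, hχ⟩ := exists_common_eigenvector T hc _ hne (fun j u hu => by
      rw [End.mem_eigenspace_iff] at hu ⊢
      rw [← End.mul_apply, (hc i j).eq, End.mul_apply, hu, map_smul])
    refine ⟨χ, hJfin.mem_toFinset.mpr ⟨v, hv0, hχ⟩, ?_⟩
    have h1 : χ i • v = c • v := by rw [← hχ, End.mem_eigenspace_iff.mp hv]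
    have h2 : χ i = c := by
      have : (χ i - c) • v = 0 := by rw [sub_smul, h1, sub_self]
      exact sub_eq_zero.mp ((smul_eq_zero.mp this).resolve_right hv0)
    simp [supp, h2, hcm]
  calc 2 * n ≤ 2 * ∑ A ∈ Jf.image supp, A.card := by
        refine Nat.mul_le_mul_left 2 (le_trans ?_ (Finset.card_biUnion_le (t := id)))
        refine le_trans (Finset.card_fin n).ge ?_
        refine Finset.card_le_card fun i _ => ?_
        obtain ⟨χ, hχ, hi⟩ := hcover i
        exact Finset.mem_biUnion.mpr ⟨supp χ, Finset.mem_image_of_mem _ hχ, hi⟩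
    _ ≤ ∑ A ∈ Jf.image supp, (Jf.filter fun χ => supp χ = A).card := by
        rw [Finset.mul_sum]
        refine Finset.sum_le_sum fun A hA => ?_
        obtain ⟨χ, hχ, rfl⟩ := Finset.mem_image.mp hA
        have hχJ := hJfin.mem_toFinset.mp hχ
        refine le_trans (two_mul_le_two_pow _) ?_
        rw [← Finset.card_powerset]
        refine Finset.card_le_card_of_injOn (flip χ) ?_ ?_
        · intro A hA
          refine Finset.mem_filter.mpr ⟨hJfin.mem_toFinset.mpr (hflipJ χ hχJ A), ?_⟩
          ext j
          by_cases hj : j ∈ A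
          · simp [supp, flip, hj, inv_pow, inv_eq_one]
          · simp [supp, flip, hj]
        · intro A hA B hB hAB
          have key : ∀ A B : Finset (Fin n), A ⊆ supp χ → flip χ A = flip χ B → A ⊆ B := by
            intro A B hA h j hj
            by_contra hjB
            have h1 := congrFun h j
            simp only [flip, if_pos hj, if_neg hjB] at h1
            obtain ⟨v, hv, hvχ⟩ := hχJ
            exact hflip _ (hroot j hv (hvχ j)) (by simpa [supp] using hA hj) h1.symm
          exact Finset.Subset.antisymm (key A B (Finset.mem_powerset.mp hA) hAB)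
            (key B A (Finset.mem_powerset.mp hB) hAB.symm)
    _ = Jf.card := (Finset.card_eq_sum_card_fiberwise (fun χ hχ => Finset.mem_image_of_mem supp hχ)).symm
    _ ≤ finrank K V := hle

end Cfsg.Agent.Lib.RepBounds
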