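import Mathlib
import Cfsg.Agent.Lib.RepBounds.Eigen

/-!
The eigencharacters of an elementary abelian subgroup `ι → F` in a representation, as linear forms.
-/

namespace Cfsg.Agent.Lib.RepBounds

open Module

/-- A representation in which the `j`-th coordinate line of an elementary abelian subgroup `A`
acts non-trivially gives a set of forms on `A`, of size at most the degree, with a member
nonzero at `j`, and stable under all automorphisms of `A` induced by conjugation. -/
theorem exists_forms {G : Type*} [Group G] {F : Type*} [Field F] [Fintype F]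
    {ι : Type*} [Fintype ι] [DecidableEq ι] {K : Type*} [Field K] (hK : ringChar K ≠ ringChar F)
    {d : ℕ} (ρ : G →* GL (Fin d) K) (A : Multiplicative (ι → F) →* G) (j : ι)
    (hj : ∃ x : F, ρ (A (Multiplicative.ofAdd (Pi.single j x))) ≠ 1) :
    ∃ S : Finset (ι → F), S.card ≤ d ∧ (∃ a ∈ S, a j ≠ 0) ∧
      ∀ (g : G) (M : (ι → F) → (ι → F)),
        (∀ v, g * A (Multiplicative.ofAdd v) * g⁻¹ = A (Multiplicative.ofAdd (M v))) →
        ∀ a ∈ S, ∀ a', (∀ v, ∑ i, a' i * v i = ∑ i, a i * M v i) → a' ∈ S := by
  classical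
  obtain ⟨p, hp⟩ := CharP.exists F
  have hpp : Fact p.Prime := ⟨CharP.char_is_prime F p⟩
  let L := AlgebraicClosure K
  let V := Fin d → L
  have hpL : (p : L) ≠ 0 := by
    rw [← map_natCast (algebraMap K L), _root_.map_ne_zero]
    intro h
    apply hK
    rw [ringChar.eq F p]
    rcases (Nat.dvd_prime hpp.out).mp (ringChar.dvd h) with h1 | h1
    · exact absurd h1 CharP.ringChar_ne_one
    · exact h1
  let φ : GL (Fin d) K →* End L V :=
    ((Matrix.toLinAlgEquiv' (R := L) (n := Fin d)).toMulEquiv.toMonoidHom).comp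
      (((algebraMap K L).mapMatrix (m := Fin d)).toMonoidHom.comp (Units.coeHom _))
  have hφ : Function.Injective φ := by
    intro x y h
    have h1 := (Matrix.toLinAlgEquiv' (R := L) (n := Fin d)).injective h
    exact Units.ext (Matrix.map_injective (algebraMap K L).injective h1)
  let R : G →* End L V := φ.comp ρ
  let T : Multiplicative (ι → F) → End L V := fun v => R (A v)
  have hT : ∀ v w, T (v * w) = T v * T w := fun v w => by simp [T]
  have hc : ∀ v w, Commute (T v) (T w) := fun v w => by
    change T v * T w = T w * T v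
    rw [← hT, ← hT, mul_comm]
  have hexp : ∀ v : ι → F, p • v = 0 := fun v => funext fun i => by simp
  have hTp : ∀ v, T v ^ p = 1 := by
    intro v
    change (R (A v)) ^ p = 1
    rw [← map_pow, ← map_pow]
    have : v ^ p = 1 := Multiplicative.toAdd.injective (by simp [hexp])
    rw [this, map_one, map_one]
  obtain ⟨x, hx⟩ := hj
  obtain ⟨c, hne, hc1⟩ := exists_eigenvalue_pow_ne_one (T (Multiplicative.ofAdd (Pi.single j x)))
    hpL (hTp _) (m := 1) (by
      rw [pow_one]
      intro h
      exact hx (hφ (h.trans (map_one φ).symm)))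
  obtain ⟨v, hv, hv0, χ, hχ⟩ := exists_common_eigenvector T hc _ hne (fun w u hu => by
    rw [End.mem_eigenspace_iff] at hu ⊢
    rw [← End.mul_apply, (hc _ w).eq, End.mul_apply, hu, map_smul])
  have hinj : ∀ {u : V}, u ≠ 0 → ∀ {a b : L}, a • u = b • u → a = b := fun hu _ _ h =>
    smul_left_injective L hu h
  let ψ : Multiplicative (ι → F) →* L :=
    { toFun := χ
      map_one' := hinj hv0 (by rw [← hχ]; simp [T])
      map_mul' := fun a b => hinj hv0 (by
        rw [← hχ, hT, End.mul_apply, hχ, map_smul, hχ, smul_smul, mul_comm]) }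
  let ψ0 : F → L := fun y => ψ (Multiplicative.ofAdd (Pi.single j y))
  have hψ0 : ∀ y z, ψ0 (y + z) = ψ0 y * ψ0 z := fun y z => by
    simp [ψ0, Pi.single_add, ofAdd_add, map_mul]
  have hψ00 : ψ0 0 = 1 := by simp [ψ0]
  have hψ0x : ψ0 x ≠ 1 := by
    change χ _ ≠ 1
    intro h
    apply hc1
    rw [pow_one, ← h]
    exact hinj hv0 (by rw [← End.mem_eigenspace_iff.mp hv, hχ])
  let dot : (ι → F) → (ι → F) → F := fun a w => ∑ i, a i * w i
  let Ψ : (ι → F) → (Multiplicative (ι → F) →* L) := fun a =>
    { toFun := fun w => ψ0 (dot a (Multiplicative.toAdd w))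
      map_one' := by simp [dot, hψ00]
      map_mul' := fun w w' => by simp [dot, mul_add, Finset.sum_add_distrib, hψ0] }
  have hΨ : Function.Injective Ψ := by
    intro a b h
    by_contra hab
    obtain ⟨i, hi⟩ := Function.ne_iff.mp hab
    have h1 := DFunLike.congr_fun h (Multiplicative.ofAdd (Pi.single i (x / (a i - b i))))
    change ψ0 _ = ψ0 _ at h1
    simp only [toAdd_ofAdd, dot, Pi.single_apply, mul_ite, mul_zero, Finset.sum_ite_eq',
      Finset.mem_univ, if_true] at h1
    apply hψ0x
    have h2 : a i * (x / (a i - b i)) = x + b i * (x / (a i - b i)) := by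
      have : a i - b i ≠ 0 := sub_ne_zero.mpr hi
      field_simp
      ring
    rw [h2, hψ0] at h1
    have h3 : ψ0 (b i * (x / (a i - b i))) ≠ 0 := by
      intro h0
      have := hψ0 (b i * (x / (a i - b i))) (-(b i * (x / (a i - b i))))
      rw [add_neg_cancel, hψ00, h0, zero_mul] at this
      exact one_ne_zero this
    exact (mul_eq_right₀ h3).mp h1
  have hrep : ∃ a, Ψ a = ψ := by
    by_contra hno
    push Not at hno
    let f : Option (ι → F) → (Multiplicative (ι → F) →* L) := fun o => o.elim ψ Ψ
    have hf : Function.Injective f := by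
      rintro (_ | a) (_ | b) h
      · rfl
      · exact absurd h.symm (hno b)
      · exact absurd h (hno a)
      · exact congrArg some (hΨ h)
    have := ((linearIndependent_monoidHom (Multiplicative (ι → F)) L).comp f hf).fintype_card_le_finrank
    simp [Module.finrank_fintype_fun_eq_card, Fintype.card_option] at this
  obtain ⟨a0, ha0⟩ := hrep
  let P : (ι → F) → Prop := fun a => ∃ u : V, u ≠ 0 ∧ ∀ w, T w u = Ψ a w • u
  refine ⟨Finset.univ.filter P, ?_, ⟨a0, ?_, ?_⟩, ?_⟩
  · have hle := card_le_finrank_of_eigenchar (V := V) T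
      ((Finset.univ.filter P).image fun a => (Ψ a : Multiplicative (ι → F) → L)) (by
        intro f hf
        obtain ⟨a, ha, rfl⟩ := Finset.mem_image.mp hf
        exact (Finset.mem_filter.mp ha).2)
    rw [Finset.card_image_of_injective _ (fun a b h => hΨ (DFunLike.coe_injective h))] at hle
    simpa [V] using hle
  · refine Finset.mem_filter.mpr ⟨Finset.mem_univ _, v, hv0, fun w => ?_⟩
    rw [ha0]
    exact hχ w
  · intro h0
    apply hψ0x
    have h1 := DFunLike.congr_fun ha0 (Multiplicative.ofAdd (Pi.single j x))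
    change ψ0 (dot a0 _) = ψ0 x at h1
    simp only [toAdd_ofAdd, dot, Pi.single_apply, mul_ite, mul_zero, Finset.sum_ite_eq',
      Finset.mem_univ, if_true, h0, zero_mul, hψ00] at h1
    exact h1.symm
  · intro g M hM a ha a' ha'
    obtain ⟨u, hu, huT⟩ := (Finset.mem_filter.mp ha).2
    refine Finset.mem_filter.mpr ⟨Finset.mem_univ _, R g⁻¹ u, fun h => hu ?_, fun w => ?_⟩
    · have h1 : (R g * R g⁻¹) u = R g (R g⁻¹ u) := rfl
      rw [h, map_zero, ← map_mul, mul_inv_cancel, map_one] at h1
      simpa using h1
    · have h1 : T w * R g⁻¹ = R g⁻¹ * T (Multiplicative.ofAdd (M (Multiplicative.toAdd w))) := by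
        simp only [T, ← map_mul, ← hM, ofAdd_toAdd]
        congr 1
        group
      rw [← End.mul_apply, h1, End.mul_apply, huT, map_smul]
      congr 1
      change ψ0 _ = ψ0 _
      simp only [dot, toAdd_ofAdd, ha']

end Cfsg.Agent.Lib.RepBounds
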